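import Groth.Agent.L29.BC.AdjTensorGlobal
import Groth.Agent.L29.DCoh.Amplitude
import Groth.Agent.L10.ShriekLoc.PerfectChart
import Groth.Agent.L10.FMBC.Basic
import Groth.Agent.L10.ShriekLoc.OpenBC
import Groth.Agent.L29.BCAdj.HomFlatPC
import Groth.Agent.L29.DCoh.RHomBound

/-!
# Upper bounds on a chart of a perfect morphism
-/

set_option autoImplicit false
set_option linter.style.haveILetI false
set_option backward.defeqAttrib.useBackward true
set_option backward.isDefEq.respectTransparency false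
set_option backward.isDefEq.respectTransparency.types false

universe u

open CategoryTheory CategoryTheory.Limits AlgebraicGeometry

attribute [local instance] HasDerivedCategory.standard

noncomputable section

namespace Groth.Lead.PerfTensor

open Groth.L00 Groth.L29 Groth.L29.DC Groth.L29.BCAdj Groth.L10.ShriekLoc Groth.L29.HomD Groth.L29.RestrictAdj

local notation "tt" => DerivedCategory.TStructure.t

variable {X Y : Scheme.{u}}

/-- derived pullbacks preserve upper bounds -/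
theorem isLE_Lpull (k : X ⟶ Y) [DCoh.HasLpull k] (K : DCoh.D Y) (n : ℤ) (h : K.IsLE n) :
    ((DCoh.Lpull k).obj K).IsLE n := by
  haveI : (Scheme.Modules.pullback k).Additive :=
    (Scheme.Modules.pullbackPushforwardAdjunction k).left_adjoint_additive
  obtain ⟨P, hP, hPk, -, ⟨e⟩⟩ := exists_flat_representative_le K n
    (fun i hi => DerivedCategory.isZero_of_isLE _ n i hi)
  haveI := hP
  let Q := (Proj.pullCx k).obj P
  haveI : CochainComplex.IsStrictlyLE Q n := (CochainComplex.isStrictlyLE_iff _ _).2 fun i hi =>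
    (Scheme.Modules.pullback k).map_isZero (P.isZero_of_isStrictlyLE n i hi)
  haveI : DerivedCategory.IsLE (DerivedCategory.Q.obj Q) n := inferInstance
  exact (tt).isLE_of_iso ((DerivedApi.objIso (DerivedApi.acyclicKFlat_pullback k) P hPk).symm ≪≫
    (DCoh.Lpull k).mapIso e) n

section Algebra

variable {R A : Type u} [CommRing R] [CommRing A] [Algebra R A] (n : ℕ)
  (ψ : MvPolynomial (Fin n) R →ₐ[R] A)
  [DRing.HasLBaseChange (algebraMap R (MvPolynomial (Fin n) R))]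
  {Rψ : Dual.D (MvPolynomial (Fin n) R) ⥤ Dual.D A} (adjψ : DRing.restrictD ψ.toRingHom ⊣ Rψ)

include adjψ in
/-- the upper shriek along a perfect presentation shifts upper bounds by a constant -/
theorem exists_bound_shriekVia
    (hp : DRing.IsPerfect (MvPolynomial (Fin n) R) (Dual.inD (MvPolynomial (Fin n) R) (ringRes ψ.toRingHom))) :
    ∃ d : ℤ, ∀ (M : Dual.D R) (hi : ℤ), (∀ i : ℤ, hi < i → Subsingleton (Dual.HD R M i)) →
      ∀ i : ℤ, hi + d < i → Subsingleton (Dual.HD A (Dual2.shriekVia n Rψ M) i) := by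
  let P := MvPolynomial (Fin n) R
  haveI : Module.Flat R P := Module.Flat.of_free
  obtain ⟨a, ha⟩ := exists_bound_hom hp
  refine ⟨-a - (n : ℤ), fun M hi hM => ?_⟩
  let LK := (DRing.LBaseChange (algebraMap R P)).obj M
  have hLK : LK.IsLE hi := (DerivedCategory.isLE_iff LK hi).2 fun j hj => by
    haveI := hM j hj
    haveI : Subsingleton (Dual.HD P ((Groth.L29.FlatBC.L R P).obj M) j) :=
      (Groth.L29.FlatBC.hEquiv R P M j).toEquiv.subsingleton
    exact (ModuleCat.isZero_of_subsingleton _).of_iso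
      ((DerivedCategory.homologyFunctor _ j).mapIso ((Groth.L29.FlatBC.lbcIso (A := R) (B := P)).app M))
  intro i hlt
  haveI := (subsingleton_hom_iff _ adjψ (ModuleCat.of A A) LK ((n : ℤ) + i)).2 (ha LK hi hLK _ (by omega))
  haveI : Subsingleton (Dual.inD A A ⟶ (Dual2.shriekVia n Rψ M)⟦i⟧) :=
    (homShiftEquiv (Dual.inD A A) (Rψ.obj LK) n i ((n : ℤ) + i) rfl).toEquiv.subsingleton
  exact (evalShiftEquiv (Dual2.shriekVia n Rψ M) i).symm.toEquiv.subsingleton

end Algebra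

variable {f : X ⟶ Y}

set_option maxHeartbeats 1600000 in
/-- both sides of the comparison on a chart shift upper bounds by a constant -/
theorem exists_bound [IsNoetherian Y] (c : DEt.Compactification f) [DCoh.HasRpush c.fbar]
    {hc : DCoh.RpushPreservesQCoh c.fbar} {a : DCoh.DQCoh Y ⥤ DCoh.DQCoh c.Xbar}
    (adj : DCoh.RpushQ c.fbar hc ⊣ a) [DCoh.HasLpull c.fbar] (C : Chart f)
    [DCoh.HasLpull C.jV] [DCoh.HasLpull (C.jU ≫ c.j)]
    (n : ℕ) (ψ : MvPolynomial (Fin n) C.R →ₐ[C.R] C.A) (hψ : Function.Surjective ψ)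
    (hp : DRing.IsPerfect (MvPolynomial (Fin n) C.R) (Dual.inD (MvPolynomial (Fin n) C.R) (ringRes ψ.toRingHom)))
    (I : CochainComplex c.Xbar.Modules ℤ) [DCoh.HasLTensorCx I]
    (eI : DerivedCategory.Q.obj I ≅ (a.obj (BC.AdjTensor.O₀ Y)).obj) :
    ∃ d : ℤ, ∀ (K : DCoh.DQCoh Y) (lo hi : ℤ), K.obj.IsGE lo → ((DCoh.Lpull C.jV).obj K.obj).IsLE hi →
      ((DCoh.Lpull (C.jU ≫ c.j)).obj (a.obj K).obj).IsLE (hi + d) ∧
      ((DCoh.Lpull (C.jU ≫ c.j)).obj ((DCoh.LTensorCx I).obj ((DCoh.Lpull c.fbar).obj K.obj))).IsLE (hi + d) := by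
  haveI := fun {A B : Scheme.{u}} (k : A ⟶ B) => KFlat.hasLpull k
  haveI := fun (R : CommRingCat.{u}) => Groth.L18.TildeF.tilde_preservesFiniteLimits (R := R)
  haveI := isNoetherian_R C
  haveI : DRing.HasLBaseChange (algebraMap C.R (MvPolynomial (Fin n) C.R)) :=
    LBC.hasLBaseChange (CommRingCat.ofHom (algebraMap C.R (MvPolynomial (Fin n) C.R)))
  obtain ⟨Rψ, ⟨adjψ⟩⟩ := Groth.L10.Shriek.exists_rightAdjoint ψ.toRingHom
  obtain ⟨d, hd⟩ := exists_bound_shriekVia n ψ adjψ hp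
  let C' : Chart c.fbar := C.comp c.fac
  haveI : PreservesFiniteLimits (tilde.functor (CommRingCat.of C'.R)) :=
    Groth.L18.TildeF.tilde_preservesFiniteLimits
  haveI : PreservesFiniteLimits (tilde.functor (CommRingCat.of C'.A)) :=
    Groth.L18.TildeF.tilde_preservesFiniteLimits
  have hG : ∀ (K : DCoh.DQCoh Y) (lo hi : ℤ), K.obj.IsGE lo → ((DCoh.Lpull C.jV).obj K.obj).IsLE hi →
      ((DCoh.Lpull (C.jU ≫ c.j)).obj (a.obj K).obj).IsLE (hi + d) := fun K lo hi hlo hhi => by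
    haveI := hhi
    obtain ⟨M, ⟨eM⟩⟩ := (TildeD.isQCohD_iff _).1 (isQCohD_Lpull C.jV K.property)
    have hM : ∀ i : ℤ, hi < i → Subsingleton (Dual.HD C.R M i) := fun i hi' =>
      ModuleCat.subsingleton_of_isZero ((TildeAlg.isZero_hd_iff (R := CommRingCat.of C.R) M i).1
        ((DerivedCategory.isZero_of_isLE ((DCoh.Lpull C.jV).obj K.obj) hi i hi').of_iso
          ((DerivedCategory.homologyFunctor _ i).mapIso eM)))
    obtain ⟨t⟩ := nonempty_chart C' adj n ψ hψ Rψ adjψ K lo hlo M ⟨eM⟩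
    refine (DerivedCategory.isLE_iff _ _).2 fun i hi' => IsZero.of_iso ?_
      ((DerivedCategory.homologyFunctor _ i).mapIso t)
    exact (TildeAlg.isZero_hd_iff (R := CommRingCat.of C.A) _ i).2
      (@ModuleCat.isZero_of_subsingleton _ _ _ (hd M hi hM i hi'))
  have hO : ((DCoh.Lpull C.jV).obj (BC.AdjTensor.O₀ Y).obj).IsLE 0 :=
    isLE_Lpull C.jV _ 0 (inferInstanceAs (DerivedCategory.IsLE (DerivedCategory.Q.obj (RHom.O0 Y)) 0))
  have hO' : (BC.AdjTensor.O₀ Y).obj.IsGE 0 :=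
    inferInstanceAs (DerivedCategory.IsGE (DerivedCategory.Q.obj (RHom.O0 Y)) 0)
  have hI := hG (BC.AdjTensor.O₀ Y) 0 0 hO' hO
  obtain ⟨P, q, hP, -, hq, -⟩ := KFlat.exists_resolution I
  haveI := (DerivedCategory.isIso_Q_map_iff_quasiIso _ q).2 hq
  haveI : DCoh.HasLTensorCx P := KFlat.hasLTensorCx P
  let eP : DerivedCategory.Q.obj P ≅ DerivedCategory.Q.obj I := asIso (DerivedCategory.Q.map q)
  let k := C.jU ≫ c.j
  let I' := (Proj.pullCx k).obj P
  haveI : DCoh.HasLTensorCx I' := KFlat.hasLTensorCx I'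
  haveI := hI
  have hI' : (DCoh.toD _ I').IsLE (0 + d) :=
    (tt).isLE_of_iso ((DCoh.Lpull k).mapIso (eP ≪≫ eI).symm ≪≫
      DerivedApi.objIso (DerivedApi.acyclicKFlat_pullback k) P hP) (0 + d)
  refine ⟨d, fun K lo hi hlo hhi => ⟨hG K lo hi hlo hhi, ?_⟩⟩
  obtain ⟨t⟩ := RHom.nonempty_lt_iso eP
  obtain ⟨p⟩ := Groth.L10.FMBC.nonempty_pullTensorD k P hP
  obtain ⟨l₁⟩ := Groth.L10.FMBC.nonempty_lpull_comp' k c.fbar (show k ≫ c.fbar = k ≫ c.fbar from rfl)
  obtain ⟨l₂⟩ := Groth.L10.FMBC.nonempty_lpull_comp'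
    (Spec.map (CommRingCat.ofHom (algebraMap C.R C.A))) C.jV (show _ = k ≫ c.fbar from C'.w.symm)
  have h1 : ((DCoh.Lpull k).obj ((DCoh.Lpull c.fbar).obj K.obj)).IsLE hi := by
    haveI : (tt).IsLE ((DCoh.Lpull C.jV ⋙
        DCoh.Lpull (Spec.map (CommRingCat.ofHom (algebraMap C.R C.A)))).obj K.obj) hi :=
      isLE_Lpull _ _ hi hhi
    exact (tt).isLE_of_iso (l₂.app K.obj ≪≫ (l₁.app K.obj).symm) hi
  haveI h2 := RHom.isLE_LTensorCx I' (0 + d) hI' _ hi h1
  haveI : (tt).IsLE ((DCoh.Lpull k ⋙ DCoh.LTensorCx ((Proj.pullCx k).obj P)).obj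
      ((DCoh.Lpull c.fbar).obj K.obj)) (hi + d) := by
    rw [zero_add] at h2
    exact h2
  exact (tt).isLE_of_iso ((p.app _).symm ≪≫ (DCoh.Lpull k).mapIso (t.app _)) (hi + d)

end Groth.Lead.PerfTensor
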