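import Groth.Agent.L29.BC.AdjCoprod
import Groth.Agent.L29.DCoh.Gen.ApproxStep
import Groth.Agent.L29.DCoh.Gen.Amp
import Groth.Agent.L29.DCoh.PCNoeth
import Groth.Agent.L29.DCoh.RpushCoh
import Groth.Agent.L29.DCoh.RpushCoprod
import Groth.Agent.L29.DCoh.Gen.PCHocolim
import Groth.Agent.L29.K.CohSupp
import Groth.Agent.L10.ShriekLoc.OpenBC
import Groth.Agent.Lead.FlatPerfect

/-!
# The right adjoint of a proper direct image and uniformly bounded below sums
-/

set_option autoImplicit false
set_option backward.defeqAttrib.useBackward true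
set_option backward.isDefEq.respectTransparency false
set_option backward.isDefEq.respectTransparency.types false

universe u

open CategoryTheory CategoryTheory.Limits CategoryTheory.Pretriangulated AlgebraicGeometry

attribute [local instance] HasDerivedCategory.standard

namespace Groth.Lead.PerfTensor

open Groth.L29 Groth.L29.DC Groth.L29.Thick

local notation "tt" => DerivedCategory.TStructure.t

variable {X Y : Scheme.{u}}

theorem isGE_coprod {ι : Type u} (K : ι → DCoh.D Y) [HasCoproduct K] (n : ℤ) (hK : ∀ i, (K i).IsGE n) :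
    (∐ K).IsGE n := by
  refine (DerivedCategory.isGE_iff _ _).2 fun j hj => ?_
  obtain ⟨h⟩ := RpushColim.isColimit_H_cofan K (Cofan.mk (∐ K) (Sigma.ι K)) (coproductIsCoproduct K) j
  refine (IsZero.iff_id_eq_zero _).2 (Cofan.IsColimit.hom_ext h _ _ fun i => ?_)
  haveI := hK i
  exact (DerivedCategory.isZero_of_isGE (K i) n j hj).eq_of_src _ _

/-- pseudo-coherent objects see uniformly bounded below sums through finitely many summands -/
theorem exists_finite_of_pc [CompactSpace Y] [QuasiSeparatedSpace Y] {Q : DCoh.D Y}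
    (hQ : ∀ m, DCoh.IsPseudoCoherentD m Q) {ι : Type u} (K : ι → DCoh.D Y) [HasCoproduct K]
    (hKq : ∀ i, DCoh.IsQCohD (K i)) (n : ℤ) (hK : ∀ i, (K i).IsGE n) (φ : Q ⟶ ∐ K) :
    ∃ (s : Finset ι) (g : ∀ i, Q ⟶ K i), φ = ∑ i ∈ s, g i ≫ Sigma.ι K i := by
  classical
  obtain ⟨r, hr⟩ := Gen.approxHolds Y ⊥ IsRetrocompact.empty
  obtain ⟨P, α, hP, -, hα⟩ := hr (n - 1) Q (PCQCoh.isQCohD_of_pc hQ) (hQ _) fun i _ x hx => hx.elim
  obtain ⟨C, c, d, hT⟩ := distinguished_cocone_triangle α
  haveI hC : DerivedCategory.IsLE C (n - 1 - 1) := (approx_iff_triangle _ hT (n - 1)).1 hα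
  obtain ⟨s, g, hg⟩ := Gen.cpt_of_perfect hP K hKq (α ≫ φ)
  have hz : ∀ (i : ι) (u : (Triangle.mk α c d).invRotate.obj₁ ⟶ K i), u = 0 := fun i u => by
    haveI : (tt).IsLE (Triangle.mk α c d).invRotate.obj₁ (n - 1) :=
      (tt).isLE_shift C (n - 1 - 1) (-1) (n - 1) (by omega)
    haveI := hK i
    exact (tt).zero u (n - 1) n (by omega)
  have hex : ∀ i, ∃ g' : Q ⟶ K i, g i = α ≫ g' := fun i =>
    Triangle.yoneda_exact₂ _ (inv_rot_of_distTriang _ hT) (g i) (hz i _)
  choose g' hg' using hex
  refine ⟨s, g', sub_eq_zero.1 ?_⟩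
  have h0 : α ≫ (φ - ∑ i ∈ s, g' i ≫ Sigma.ι K i) = 0 := by
    rw [Preadditive.comp_sub, hg, Preadditive.comp_sum, sub_eq_zero]
    refine Finset.sum_congr rfl fun i _ => ?_
    rw [← Category.assoc]
    exact congrArg (· ≫ _) (hg' i)
  obtain ⟨v, hv⟩ := Triangle.yoneda_exact₂ _ hT _ h0
  haveI := isGE_coprod K n hK
  haveI : (tt).IsLE (Triangle.mk α c d).obj₃ (n - 1 - 1) := hC
  haveI : (tt).IsGE (∐ K) n := isGE_coprod K n hK
  rw [hv, show v = 0 from (tt).zero v (n - 1 - 1) n (by omega), comp_zero]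

/-- direct images of perfect objects along proper morphisms are pseudo-coherent -/
theorem pc_Rpush_perfect [IsNoetherian X] [IsNoetherian Y] (f : X ⟶ Y) [IsProper f] [DCoh.HasRpush f]
    {P : DCoh.D X} (hP : DCoh.IsPerfect P) (m : ℤ) : DCoh.IsPseudoCoherentD m ((DCoh.Rpush f).obj P) := by
  obtain ⟨lo, hi, hlo, hhi⟩ := Groth.L29.CohSupp.exists_bounds_of_perfect hP
  haveI := hlo
  have hPq := PCQCoh.isQCohD_of_perfect hP
  have hc : DCoh.IsCohD P := fun i => PCNoeth.coh_of_pc hPq (pc_of_perfect hP i) i le_rfl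
  have hR := RpushCoh.isCohD_Rpush f P lo hc fun i => Groth.Lead.FlatPerfect.isProperOver_support f (hc i)
  obtain ⟨N, hN⟩ := Gen.exists_amp f
  haveI := hN P hPq hi hhi
  exact PCNoeth.pc_of_coh (fun i => (hR i).1) m (hi + N) fun i _ => hR i

set_option maxHeartbeats 800000 in
/-- the comparison of sums, given finiteness on perfect objects -/
theorem isIso_sigmaComparison_of_finite [CompactSpace X] [QuasiSeparatedSpace X] [CompactSpace Y]
    [QuasiSeparatedSpace Y] (F : DCoh.DQCoh X ⥤ DCoh.DQCoh Y) [F.Additive] (a : DCoh.DQCoh Y ⥤ DCoh.DQCoh X)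
    (adj : F ⊣ a) {J : Type u} [HasCoproductsOfShape J (DCoh.D Y)] [HasCoproductsOfShape J (DCoh.DQCoh X)]
    (K : J → DCoh.DQCoh Y) [HasCoproduct K]
    (hF : ∀ P : DCoh.DQCoh X, DCoh.IsPerfect P.obj → ∀ φ : (F.obj P).obj ⟶ ∐ fun j => (K j).obj,
      ∃ (s : Finset J) (g : ∀ j, (F.obj P).obj ⟶ (K j).obj), φ = ∑ j ∈ s, g j ≫ Sigma.ι (fun j => (K j).obj) j) :
    IsIso (sigmaComparison a K) := by
  classical
  haveI : a.Additive := adj.right_adjoint_additive
  haveI := Gen.hasCoproducts_D X J
  haveI := Gen.preservesCoproducts_ι (X := X) J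
  haveI := Gen.preservesCoproducts_ι (X := Y) J
  obtain ⟨G, hG, hgen⟩ := Gen.exists_perfect_generator X
  haveI := BC.AdjCoprod.isIso_of_bijective hgen (∐ fun j => a.obj (K j)).property (a.obj (∐ K)).property
    (sigmaComparison a K).hom (fun n => by
      let P : DCoh.DQCoh X := ⟨G⟦n⟧, Gen.isQCohD_shift (PCQCoh.isQCohD_of_perfect hG) n⟩
      have hP : DCoh.IsPerfect P.obj := perfect_shift hG n
      let cY := PreservesCoproduct.iso (DCoh.IsQCohD (X := Y)).ι K
      let cX := PreservesCoproduct.iso (DCoh.IsQCohD (X := X)).ι fun j => a.obj (K j)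
      refine ⟨fun φ ψ hφψ => ?_, fun φ => ?_⟩
      · refine sub_eq_zero.1 ?_
        have hz : (φ - ψ) ≫ (sigmaComparison a K).hom = 0 := by
          rw [Preadditive.sub_comp]
          exact sub_eq_zero.2 hφψ
        generalize φ - ψ = χ at hz ⊢
        obtain ⟨s, g, hg⟩ := Gen.cpt_of_perfect hP (fun j => (a.obj (K j)).obj) (fun j => (a.obj (K j)).property)
          (χ ≫ cX.hom)
        have hχ : χ = ∑ i ∈ s, g i ≫ (Sigma.ι (fun j => a.obj (K j)) i).hom := by
          rw [← cancel_mono cX.hom, hg, Preadditive.sum_comp]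
          refine Finset.sum_congr rfl fun i _ => ?_
          rw [Category.assoc]
          congr 1
          rw [← Iso.comp_inv_eq]
          exact ι_comp_sigmaComparison (DCoh.IsQCohD (X := X)).ι (fun j => a.obj (K j)) i
        rw [hχ]
        refine Finset.sum_eq_zero fun i hi => ?_
        let π : (∐ K) ⟶ K i := Sigma.desc fun j => if h : j = i then eqToHom (congrArg K h) else 0
        have h0 := congrArg (· ≫ (a.map π).hom) hz
        rw [hχ, Preadditive.sum_comp, Preadditive.sum_comp, zero_comp, Finset.sum_eq_single i] at h0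
        · have h1 : (Sigma.ι (fun j => a.obj (K j)) i).hom ≫ (sigmaComparison a K).hom ≫ (a.map π).hom =
              𝟙 (a.obj (K i)).obj := by
            change (Sigma.ι (fun j => a.obj (K j)) i ≫ sigmaComparison a K ≫ a.map π).hom = _
            rw [ι_comp_sigmaComparison_assoc, ← Functor.map_comp]
            simp [π]
          simp only [Category.assoc, h1, Category.comp_id] at h0
          rw [h0, zero_comp]
        · intro j _ hj
          simp only [Category.assoc]
          have h2 : (Sigma.ι (fun j => a.obj (K j)) j).hom ≫ (sigmaComparison a K).hom ≫ (a.map π).hom = 0 := by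
            change (Sigma.ι (fun j => a.obj (K j)) j ≫ sigmaComparison a K ≫ a.map π).hom = _
            rw [ι_comp_sigmaComparison_assoc, ← Functor.map_comp]
            simp [π, hj]
          rw [h2, comp_zero]
        · exact fun h => absurd hi h
      · let φ' : P ⟶ a.obj (∐ K) := ObjectProperty.homMk φ
        let ψ := (adj.homEquiv P (∐ K)).symm φ'
        obtain ⟨s, g, hg⟩ := hF P hP (ψ.hom ≫ cY.hom)
        have hψ : ψ = ∑ i ∈ s, (ObjectProperty.homMk (g i) : F.obj P ⟶ K i) ≫ Sigma.ι K i := by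
          refine (DCoh.IsQCohD (X := Y)).ι.map_injective ?_
          rw [Functor.map_sum, ← cancel_mono cY.hom]
          refine hg.trans ?_
          rw [Preadditive.sum_comp]
          refine Finset.sum_congr rfl fun i _ => ?_
          rw [Functor.map_comp, Category.assoc]
          congr 1
          rw [← Iso.comp_inv_eq]
          exact ι_comp_sigmaComparison (DCoh.IsQCohD (X := Y)).ι K i
        refine ⟨∑ i ∈ s, (adj.homEquiv P (K i) (ObjectProperty.homMk (g i)) ≫ Sigma.ι (fun j => a.obj (K j)) i).hom, ?_⟩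
        have key : adj.homEquiv P (∐ K) ψ =
            (∑ i ∈ s, adj.homEquiv P (K i) (ObjectProperty.homMk (g i)) ≫ Sigma.ι (fun j => a.obj (K j)) i) ≫
              sigmaComparison a K := by
          rw [hψ, Adjunction.homEquiv_unit, Functor.map_sum, Preadditive.comp_sum, Preadditive.sum_comp]
          refine Finset.sum_congr rfl fun i _ => ?_
          rw [Category.assoc, ι_comp_sigmaComparison, Adjunction.homEquiv_unit, Category.assoc, Functor.map_comp]
        have h3 := congrArg (DCoh.IsQCohD (X := X)).ι.map key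
        simp only [ψ, Equiv.apply_symm_apply, Functor.map_comp, Functor.map_sum] at h3
        exact h3.symm)
  haveI : IsIso ((DCoh.IsQCohD (X := X)).ι.map (sigmaComparison a K)) := this
  exact isIso_of_reflects_iso (sigmaComparison a K) (DCoh.IsQCohD (X := X)).ι

/-- for a proper morphism `a` commutes with uniformly bounded below sums -/
theorem isIso_sigmaComparison [IsNoetherian X] [IsNoetherian Y] {f : X ⟶ Y} [IsProper f] [DCoh.HasRpush f]
    {hf : DCoh.RpushPreservesQCoh f} {a : DCoh.DQCoh Y ⥤ DCoh.DQCoh X} (adj : DCoh.RpushQ f hf ⊣ a)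
    {J : Type u} [HasCoproductsOfShape J (DCoh.D Y)] [HasCoproductsOfShape J (DCoh.DQCoh X)]
    (K : J → DCoh.DQCoh Y) [HasCoproduct K] (n : ℤ) (hK : ∀ j, (K j).obj.IsGE n) :
    IsIso (sigmaComparison a K) := by
  haveI : (DCoh.RpushQ f hf).Additive := by
    haveI := RpushColim.additive_Rpush f
    infer_instance
  refine isIso_sigmaComparison_of_finite _ a adj K fun P hP φ => ?_
  exact exists_finite_of_pc (pc_Rpush_perfect f hP) _ (fun j => (K j).property) n hK φ

end Groth.Lead.PerfTensor
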