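import Groth.Agent.Lead.PerfTensor.Five
import Mathlib.Algebra.Homology.DerivedCategory.HomologySequence

/-!
# Middle exactness of cohomology of weakly exact functors
-/

set_option autoImplicit false

universe w v' u' v u

open CategoryTheory CategoryTheory.Limits CategoryTheory.Pretriangulated

namespace Groth.Lead.PerfTensor

variable {C : Type u} [Category.{v} C] [HasZeroObject C] [HasShift C ℤ] [Preadditive C]
  [∀ n : ℤ, (CategoryTheory.shiftFunctor C n).Additive] [Pretriangulated C]
  {A : Type u'} [Category.{v'} A] [Abelian A] [HasDerivedCategory.{w} A]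

/-- `P` sends the first two maps of a triangle to the first two maps of a triangle, up to a further map -/
def HEx (P : C ⥤ DerivedCategory A) : Prop :=
  ∀ T : Triangle C, T ∈ distTriang C → ∃ (Z : DerivedCategory A) (e : P.obj T.obj₃ ⟶ Z) (h : Z ⟶ (P.obj T.obj₁)⟦(1 : ℤ)⟧),
    Triangle.mk (P.map T.mor₁) (P.map T.mor₂ ≫ e) h ∈ distTriang (DerivedCategory A)

theorem mk_mem_of_eq {D : Type*} [Category D] [HasZeroObject D] [HasShift D ℤ] [Preadditive D]
    [∀ n : ℤ, (CategoryTheory.shiftFunctor D n).Additive] [Pretriangulated D] {X Y Z : D} {f : X ⟶ Y} {g g' : Y ⟶ Z}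
    {h : Z ⟶ X⟦(1 : ℤ)⟧} (e : g = g') (hd : Triangle.mk f g h ∈ distTriang D) : Triangle.mk f g' h ∈ distTriang D := by
  subst e; exact hd

theorem midExact_H {P : C ⥤ DerivedCategory A} (hP : HEx P) (i : ℤ) :
    MidExact (P ⋙ DerivedCategory.homologyFunctor A i) := by
  intro T hT Z z hz
  obtain ⟨W, e, h, hd⟩ := hP T hT
  have hex := (DerivedCategory.homologyFunctor A i).map_distinguished_exact _ hd
  obtain ⟨Z', π, hπ, b, hb⟩ := hex.exact_up_to_refinements z (by
    change z ≫ (DerivedCategory.homologyFunctor A i).map (P.map T.mor₂ ≫ e) = 0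
    rw [Functor.map_comp]
    exact (Category.assoc _ _ _).symm.trans ((congrArg (· ≫ _) hz).trans zero_comp))
  exact ⟨Z', π, hπ, b, hb⟩

theorem hex_of_triangulated (P : C ⥤ DerivedCategory A) [P.CommShift ℤ] [P.IsTriangulated] : HEx P :=
  fun T hT => ⟨_, 𝟙 _, _, mk_mem_of_eq (Category.comp_id _).symm (P.map_distinguished T hT)⟩

variable {P Q : C ⥤ A} [P.PreservesZeroMorphisms] [Q.PreservesZeroMorphisms] (t : P ⟶ Q)

/-- a map with cone killed by a middle exact functor is sent to an isomorphism -/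
theorem isIso_map₁ (hP : MidExact P) (T : Triangle C) (hT : T ∈ distTriang C) (h₀ : IsZero (P.obj T.invRotate.obj₁))
    (h₃ : IsZero (P.obj T.obj₃)) : IsIso (P.map T.mor₁) := by
  haveI : Mono (P.map T.mor₁) := Preadditive.mono_of_cancel_zero _ fun {Z} z hz => by
    obtain ⟨Z', π, _, b, hb⟩ := hP T.invRotate (inv_rot_of_distTriang _ hT) z hz
    rw [h₀.eq_of_tgt b 0, zero_comp] at hb
    rwa [← cancel_epi π, comp_zero]
  haveI : Epi (P.map T.mor₁) := by
    rw [epi_iff_surjective_up_to_refinements]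
    intro Z z
    obtain ⟨Z', π, hπ, b, hb⟩ := hP T hT z (h₃.eq_of_tgt _ _)
    exact ⟨Z', π, hπ, b, hb⟩
  exact isIso_of_mono_of_epi _

end Groth.Lead.PerfTensor
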