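import Groth.Agent.L29.DCoh.Gen.PCHocolim
import Groth.Agent.L10.DerTrunc

/-!
# Bounded below objects as telescopes of their truncations
-/

set_option autoImplicit false
set_option backward.defeqAttrib.useBackward true
set_option backward.isDefEq.respectTransparency false
set_option backward.isDefEq.respectTransparency.types false

universe u

open CategoryTheory CategoryTheory.Limits CategoryTheory.Pretriangulated AlgebraicGeometry

attribute [local instance] HasDerivedCategory.standard

noncomputable section

namespace Groth.Lead.PerfTensor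

open Groth.L29 Groth.L29.DC

variable {X : Scheme.{u}}

local notation "H" => DerivedCategory.homologyFunctor X.Modules
local notation "tt" => DerivedCategory.TStructure.t

/-- a compatible family which is eventually an isomorphism in each degree exhibits a hocolim -/
theorem isHocolim_of_eventually [HasColimitsOfShape (Discrete ℕ) (DCoh.D X)] {E : ℕ → DCoh.D X}
    {f : ∀ n, E n ⟶ E (n + 1)} {K : DCoh.D X} {i : ∀ n, E n ⟶ K} (hi : ∀ n, f n ≫ i (n + 1) = i n)
    (hiso : ∀ j : ℤ, ∃ n₀ : ℕ, ∀ n : ℕ, n₀ ≤ n → IsIso ((H j).map (i n))) :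
    DerLim.IsHocolim E f K i := by
  obtain ⟨L, l, φ, ⟨c, hT⟩, hl⟩ := Gen.exists_hocolim_map hi
  have hφ : IsIso φ := (DerivedCategory.isIso_iff _ φ).2 fun j => by
    obtain ⟨n₀, hn₀⟩ := hiso j
    haveI := Gen.preservesCoproductsNat_H (X := X) j
    haveI : HasColimitsOfShape ℕ X.Modules := inferInstance
    obtain ⟨e, he⟩ := Groth.Agent.S1034.result (H j) E f L l ⟨c, hT⟩
    let F : ℕ ⥤ X.Modules := Functor.ofSequence (fun n => (H j).map (f n))
    have hnat : ∀ (a k : ℕ), F.map (homOfLE (Nat.le_add_right a k)) ≫ (H j).map (i (a + k)) = (H j).map (i a) := by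
      intro a k
      induction k with
      | zero => simp [F]
      | succ k ih =>
        rw [← homOfLE_comp (Nat.le_add_right a k) (Nat.le_succ (a + k)), Functor.map_comp, Category.assoc]
        have h2 : F.map (homOfLE (Nat.le_succ (a + k))) = (H j).map (f (a + k)) :=
          Functor.ofSequence_map_homOfLE_succ _ _
        rw [h2]
        erw [← Functor.map_comp, hi (a + k)]
        exact ih
    have hc : F.IsEventuallyConstantFrom n₀ := fun b g => by
      obtain ⟨k, rfl⟩ := Nat.exists_eq_add_of_le (leOfHom g)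
      haveI := hn₀ n₀ le_rfl
      haveI := hn₀ (n₀ + k) (by omega)
      rw [show g = homOfLE (Nat.le_add_right _ k) from Subsingleton.elim _ _]
      haveI : IsIso (F.map (homOfLE (Nat.le_add_right n₀ k)) ≫ (H j).map (i (n₀ + k))) := by
        rw [hnat]; infer_instance
      exact IsIso.of_isIso_comp_right _ ((H j).map (i (n₀ + k)))
    haveI : IsIso (colimit.ι F n₀) := hc.isIso_ι_of_isColimit (colimit.isColimit F)
    haveI : IsIso ((H j).map (l n₀)) := by
      rw [← he n₀]
      change IsIso (colimit.ι F n₀ ≫ e.hom)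
      infer_instance
    haveI := hn₀ n₀ le_rfl
    haveI : IsIso ((H j).map (l n₀) ≫ (H j).map φ) := by
      rw [← Functor.map_comp, hl]; infer_instance
    exact IsIso.of_isIso_comp_left ((H j).map (l n₀)) _
  refine ⟨inv φ ≫ c, isomorphic_distinguished _ hT _ ?_⟩
  refine Triangle.isoMk _ _ (Iso.refl _) (Iso.refl _) (asIso φ).symm ?_ ?_ ?_
  · simp
  · refine Sigma.hom_ext _ _ fun n => ?_
    simp [← hl n]
  · simp

/-- a bounded below object is the hocolim of bounded truncations -/
theorem isHocolim_trunc [HasColimitsOfShape (Discrete ℕ) (DCoh.D X)] (K : DCoh.D X) (lo : ℤ) :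
    DerLim.IsHocolim (fun n : ℕ => ((tt).truncLT (lo + n)).obj K)
      (fun n : ℕ => ((tt).natTransTruncLTOfLE (lo + n) (lo + (n + 1 : ℕ)) (by push_cast; omega)).app K) K
      (fun n : ℕ => ((tt).truncLTι (lo + n)).app K) :=
  isHocolim_of_eventually (fun n => (tt).natTransTruncLTOfLE_ι_app _ _ _ K)
    fun j => ⟨(j - lo + 1).toNat, fun n hn => Groth.L10.isIso_H_ι _ j (by omega) K⟩

end Groth.Lead.PerfTensor
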