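import Groth.Agent.Lead.PerfTensor.Coprod
import Groth.Agent.Lead.PerfTensor.Telescope
import Groth.Agent.Lead.PerfTensor.MidExactH
import Groth.Agent.Lead.PerfTensor.ChartBound
import Groth.Agent.L29.DCoh.Gen.Loc
import Groth.Agent.L29.DCoh.Gen.Bounded
import Groth.Agent.L10.ShriekLoc.Local
import Groth.Agent.L29.BC.AdjTensorGlobal

/-!
# Dévissage along a chart: a comparison invertible at `O` is invertible on bounded below objects
-/

set_option autoImplicit false
set_option linter.style.haveILetI false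
set_option backward.defeqAttrib.useBackward true
set_option backward.isDefEq.respectTransparency false
set_option backward.isDefEq.respectTransparency.types false

universe u

open CategoryTheory CategoryTheory.Limits CategoryTheory.Pretriangulated AlgebraicGeometry

attribute [local instance] HasDerivedCategory.standard

noncomputable section

namespace Groth.Lead.PerfTensor

open Groth.L00 Groth.L29 Groth.L29.DC Groth.L29.BCAdj Groth.L10.ShriekLoc Groth.L29.HomD Groth.L29.RestrictAdj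
open Groth.L29.BC.AdjTensor (L On O₀)

local notation "tt" => DerivedCategory.TStructure.t

variable {X Y : Scheme.{u}}

theorem isLE_coprod {ι : Type u} (K : ι → DCoh.D Y) [HasCoproduct K] (n : ℤ) (hK : ∀ i, (K i).IsLE n) :
    (∐ K).IsLE n := by
  refine (DerivedCategory.isLE_iff _ _).2 fun j hj => ?_
  obtain ⟨h⟩ := RpushColim.isColimit_H_cofan K (Cofan.mk (∐ K) (Sigma.ι K)) (coproductIsCoproduct K) j
  refine (IsZero.iff_id_eq_zero _).2 (Cofan.IsColimit.hom_ext h _ _ fun i => ?_)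
  haveI := hK i
  exact (DerivedCategory.isZero_of_isLE (K i) n j hj).eq_of_src _ _

theorem isGE_iso {A B : DCoh.D Y} (e : A ≅ B) (n : ℤ) (h : A.IsGE n) : B.IsGE n :=
  haveI : (tt).IsGE A n := h
  (tt).isGE_of_iso e n

theorem isLE_iso {A B : DCoh.D Y} (e : A ≅ B) (n : ℤ) (h : A.IsLE n) : B.IsLE n :=
  haveI : (tt).IsLE A n := h
  (tt).isLE_of_iso e n

theorem isGE_shift' {A : DCoh.D Y} (l n m : ℤ) (h : A.IsGE l) (e : n + m = l) : (A⟦n⟧).IsGE m :=
  haveI : (tt).IsGE A l := h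
  (tt).isGE_shift A l n m e

theorem isLE_shift' {A : DCoh.D Y} (l n m : ℤ) (h : A.IsLE l) (e : n + m = l) : (A⟦n⟧).IsLE m :=
  haveI : (tt).IsLE A l := h
  (tt).isLE_shift A l n m e

theorem isZero_H {A : DCoh.D Y} (n i : ℤ) (h : A.IsLE n) (hi : n < i) :
    IsZero ((DerivedCategory.homologyFunctor Y.Modules i).obj A) :=
  haveI := h
  DerivedCategory.isZero_of_isLE A n i hi

section Alg

variable (R : Type u) [CommRing R]

/-- classes in degree `j` -/
def σ (j : ℤ) (W : Dual.D R) : ((Dual.inD R R)⟦-j⟧ ⟶ W) ≃ Dual.HD R W j :=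
  ((shiftEquiv' (Dual.D R) (-j) j (by omega)).toAdjunction.homEquiv _ _).trans (evalShiftEquiv W j).toEquiv

theorem subsingleton_σ (j m : ℤ) (W : Dual.D R) (hW : W.IsLE m) (h : m < j) :
    Subsingleton ((Dual.inD R R)⟦-j⟧ ⟶ W) := by
  haveI : Subsingleton (Dual.HD R W j) :=
    haveI := hW
    ModuleCat.subsingleton_of_isZero (DerivedCategory.isZero_of_isLE W m j h)
  exact (σ R j W).subsingleton

/-- a cone of a map surjective in the top degree -/
theorem isLE_cone (T : Triangle (Dual.D R)) (hT : T ∈ distTriang _) (hi : ℤ) (h₁ : T.obj₁.IsLE hi)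
    (h₂ : T.obj₂.IsLE hi) (hs : ∀ b : (Dual.inD R R)⟦-hi⟧ ⟶ T.obj₂, ∃ b', b' ≫ T.mor₁ = b) :
    T.obj₃.IsLE (hi - 1) := by
  refine (DerivedCategory.isLE_iff _ _).2 fun j hj => ?_
  suffices h : Subsingleton ((Dual.inD R R)⟦-j⟧ ⟶ T.obj₃) from
    @ModuleCat.isZero_of_subsingleton _ _ _ ((σ R j T.obj₃).symm.subsingleton)
  refine subsingleton_of_forall_eq 0 fun z => ?_
  haveI := h₁
  haveI : (tt).IsLE (T.obj₁⟦(1 : ℤ)⟧) (hi - 1) := (tt).isLE_shift T.obj₁ hi 1 (hi - 1) (by omega)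
  haveI := subsingleton_σ R j (hi - 1) (T.obj₁⟦(1 : ℤ)⟧) inferInstance (by omega)
  obtain ⟨b, hb⟩ := Triangle.coyoneda_exact₃ _ hT z (Subsingleton.elim _ _)
  rcases (show hi ≤ j by omega).eq_or_lt with rfl | h
  · obtain ⟨b', rfl⟩ := hs b
    rw [hb, Category.assoc, comp_distTriang_mor_zero₁₂ _ hT, comp_zero]
  · haveI := subsingleton_σ R j hi T.obj₂ h₂ h
    rw [hb, Subsingleton.elim b 0, zero_comp]

end Alg

theorem sigmaComparison_comp {A B C : Type*} [Category A] [Category B] [Category C] {J : Type*}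
    (a : A ⥤ B) (q : B ⥤ C) (K : J → A) [HasCoproduct K] [HasCoproductsOfShape J B] [HasCoproductsOfShape J C] :
    sigmaComparison (a ⋙ q) K = sigmaComparison q (fun j => a.obj (K j)) ≫ q.map (sigmaComparison a K) := by
  refine Sigma.hom_ext _ _ fun j => ?_
  rw [ι_comp_sigmaComparison]
  change _ = Sigma.ι (fun b => q.obj (a.obj (K b))) j ≫ _
  rw [ι_comp_sigmaComparison_assoc, ← Functor.map_comp, ι_comp_sigmaComparison]
  rfl

variable [IsNoetherian X] [IsNoetherian Y] (f : X ⟶ Y) [IsProper f] [DCoh.HasRpush f] [DCoh.HasLpull f]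
  {hf : DCoh.RpushPreservesQCoh f} {a : DCoh.DQCoh Y ⥤ DCoh.DQCoh X} (adj : DCoh.RpushQ f hf ⊣ a)
  (I : CochainComplex X.Modules ℤ) [DCoh.HasLTensorCx I] (hI : DCoh.IsQCohD (DerivedCategory.Q.obj I))
  (Ψ : L f I hI ⟶ a)
  (h0 : ∀ (n : ℤ) (K : DCoh.DQCoh Y), Nonempty (K.obj ≅ DerivedCategory.Q.obj ((RHom.O0 Y)⟦n⟧)) → IsIso (Ψ.app K))
  (R : Type u) [CommRing R] (jV : Spec (CommRingCat.of R) ⟶ Y) [IsOpenImmersion jV] [DCoh.HasLpull jV]
  {W : Scheme.{u}} (k : W ⟶ X) [DCoh.HasLpull k] (cst : ℤ)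
  (hb : ∀ (K : DCoh.DQCoh Y) (lo hi : ℤ), K.obj.IsGE lo → ((DCoh.Lpull jV).obj K.obj).IsLE hi →
      ((DCoh.Lpull k).obj (a.obj K).obj).IsLE (hi + cst) ∧
      ((DCoh.Lpull k).obj ((DCoh.LTensorCx I).obj ((DCoh.Lpull f).obj K.obj))).IsLE (hi + cst))

include adj h0 hb in
set_option maxHeartbeats 3200000 in
/-- invertibility on bounded below objects, after pullback to the chart -/
theorem isIso_devissage (K : DCoh.DQCoh Y) (lo : ℤ) (hK : K.obj.IsGE lo) :
    IsIso ((DCoh.Lpull k).map ((DCoh.IsQCohD (X := X)).ι.map (Ψ.app K))) := by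
  let ιX := (DCoh.IsQCohD (X := X)).ι
  let ιY := (DCoh.IsQCohD (X := Y)).ι
  let q := ιX ⋙ DCoh.Lpull k
  let F := L f I hI ⋙ q
  let G := a ⋙ q
  let τ : F ⟶ G := Functor.whiskerRight Ψ q
  change IsIso (τ.app K)
  -- exactness
  letI := Gen.commShiftRpush f
  haveI := Gen.isTriangulated_Rpush f
  haveI := RpushColim.additive_Rpush f
  letI := adj.rightAdjointCommShift ℤ
  haveI : adj.CommShift ℤ := adj.commShift_of_leftAdjoint ℤ
  haveI : a.IsTriangulated := adj.isTriangulated_rightAdjoint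
  letI := BC.commShiftLpull f
  haveI := BC.isTriangulated_Lpull f
  letI := BC.commShiftLpull k
  haveI := BC.isTriangulated_Lpull k
  haveI := RHom.hasRSheafHom I
  haveI : (DCoh.LTensorCx I).Additive := by
    haveI : (DCoh.LTensorCx I).IsLeftAdjoint := ⟨_, ⟨DCoh.RSheafHomAdj I⟩⟩
    haveI := preservesBinaryBiproducts_of_preservesBinaryCoproducts (DCoh.LTensorCx I)
    exact Functor.additive_of_preservesBinaryBiproducts _
  haveI : (L f I hI).Additive := ⟨fun {A B k k'} => by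
    apply ObjectProperty.hom_ext
    exact (DCoh.Lpull f ⋙ DCoh.LTensorCx I).map_add (f := k.hom) (g := k'.hom)⟩
  haveI : F.Additive := inferInstance
  haveI : G.Additive := inferInstance
  have exG : HEx G := hex_of_triangulated G
  have exF : HEx F := fun T hT => by
    have hT' := (ιY ⋙ DCoh.Lpull f).map_distinguished T hT
    let T' := (ιY ⋙ DCoh.Lpull f).mapTriangle.obj T
    obtain ⟨h, hd⟩ := Groth.L29.BC.LTExact.exists_distinguished I T'.invRotate (inv_rot_of_distTriang _ hT')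
    have h3 : T'.invRotate.mor₃ = T'.mor₂ ≫ ((shiftEquiv (DCoh.D X) (1 : ℤ)).counitIso.inv.app T'.obj₃) := rfl
    refine ⟨_, (DCoh.Lpull k).map ((DCoh.LTensorCx I).map
      ((shiftEquiv (DCoh.D X) (1 : ℤ)).counitIso.inv.app T'.obj₃)), _,
      mk_mem_of_eq ?_ ((DCoh.Lpull k).map_distinguished _ hd)⟩
    change (DCoh.Lpull k).map ((DCoh.LTensorCx I).map T'.invRotate.mor₃) = _
    rw [h3, Functor.map_comp, Functor.map_comp]
    rfl
  let H := fun i : ℤ => DerivedCategory.homologyFunctor W.Modules i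
  let tH := fun i : ℤ => Functor.whiskerRight τ (H i)
  haveI : ∀ i : ℤ, (F ⋙ H i).Additive := fun i => inferInstance
  haveI : ∀ i : ℤ, (G ⋙ H i).Additive := fun i => inferInstance
  -- restriction to the chart on the base
  haveI := RpushQC.hasRpush jV
  haveI : PreservesFiniteLimits (Scheme.Modules.restrictFunctor jV) := inferInstance
  haveI := Groth.L18.TildeF.tilde_preservesFiniteLimits (R := CommRingCat.of R)
  haveI := (TildeD.fullyFaithful (R := CommRingCat.of R)).1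
  haveI := (TildeD.fullyFaithful (R := CommRingCat.of R)).2
  letI := Gen.commShiftRpush jV
  haveI := Gen.isTriangulated_Rpush jV
  let rs := DCoh.restrictD jV
  let ad := Cpt.restrictRpushAdj jV
  let Bdd : DCoh.DQCoh Y → Prop := fun K => ∃ l : ℤ, K.obj.IsGE l
  let Le : DCoh.DQCoh Y → ℤ → Prop := fun K hi => (rs.obj K.obj).IsLE hi
  have hLe : ∀ (K : DCoh.DQCoh Y) (hi : ℤ), Le K hi → ((DCoh.Lpull jV).obj K.obj).IsLE hi := fun K hi h => by
    obtain ⟨r⟩ := nonempty_Lpull_iso_restrictD jV K.obj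
    haveI : (tt).IsLE (rs.obj K.obj) hi := h
    exact (tt).isLE_of_iso r.symm hi
  have hzero : ∀ (K : DCoh.DQCoh Y) (hi i : ℤ), Bdd K → Le K hi → hi + cst < i →
      IsZero ((F ⋙ H i).obj K) ∧ IsZero ((G ⋙ H i).obj K) := fun K hi i ⟨l, hl⟩ hle hlt => by
    obtain ⟨h1, h2⟩ := hb K l hi hl (hLe K hi hle)
    exact ⟨isZero_H (hi + cst) i h2 hlt, isZero_H (hi + cst) i h1 hlt⟩
  have hV0 : ∀ (C : DCoh.DQCoh Y), Bdd C → IsZero (rs.obj C.obj) → ∀ i,
      IsZero ((F ⋙ H i).obj C) ∧ IsZero ((G ⋙ H i).obj C) := fun C hC hz i =>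
    hzero C (i - cst - 1) i hC ((DerivedCategory.isLE_iff _ _).2 fun j _ => Functor.map_isZero _ hz) (by omega)
  -- bounds of shifts
  have hsh : ∀ (K : DCoh.DQCoh Y) (n : ℤ), Bdd K → Bdd (K⟦n⟧) := fun K n ⟨l, hl⟩ => by
    exact ⟨l - n, isGE_iso ((ιY.commShiftIso n).app K).symm _ (isGE_shift' l n _ hl (by omega))⟩
  have hshLe : ∀ (K : DCoh.DQCoh Y) (n hi : ℤ), Le K hi → Le (K⟦n⟧) (hi - n) := fun K n hi h => by
    exact isLE_iso (rs.mapIso ((ιY.commShiftIso n).app K) ≪≫ (rs.commShiftIso n).app _).symm _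
      (isLE_shift' hi n _ h (by omega))
  have hbdd₃ : ∀ T : Triangle (DCoh.DQCoh Y), T ∈ distTriang _ → Bdd T.obj₁ → Bdd T.obj₂ → Bdd T.obj₃ :=
    fun T hT h₁ ⟨l₂, h₂⟩ => by
      obtain ⟨l₁, h₁'⟩ := hsh T.obj₁ 1 h₁
      haveI : (tt).IsGE T.obj₂.obj l₂ := h₂
      haveI : (tt).IsGE (T.obj₁⟦(1 : ℤ)⟧).obj l₁ := h₁'
      refine ⟨min l₁ l₂, ?_⟩
      exact (tt).isGE₂ _ (ιY.map_distinguished _ (rot_of_distTriang _ hT)) (min l₁ l₂)
        ((tt).isGE_of_ge T.obj₂.obj (min l₁ l₂) l₂ (by omega))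
        ((tt).isGE_of_ge (T.obj₁⟦(1 : ℤ)⟧).obj (min l₁ l₂) l₁ (by omega))
  -- iso at `O` and its sums
  have hq : ∀ J : Type u, PreservesColimitsOfShape (Discrete J) q := fun J => by
    haveI := Gen.preservesCoproducts_ι (X := X) J
    haveI : (DCoh.Lpull k).IsLeftAdjoint := by
      haveI := RpushQC.hasRpush k
      exact ⟨_, ⟨BC.adj k⟩⟩
    exact comp_preservesColimitsOfShape _ _
  haveI : ∀ J : Type u, PreservesColimitsOfShape (Discrete J) F := fun J => by
    haveI := Gen.preservesCoproducts_ι (X := Y) J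
    haveI : (DCoh.Lpull f).IsLeftAdjoint := ⟨_, ⟨BC.adj f⟩⟩
    haveI : (DCoh.LTensorCx I).IsLeftAdjoint := ⟨_, ⟨DCoh.RSheafHomAdj I⟩⟩
    haveI : (DCoh.Lpull k).IsLeftAdjoint := by
      haveI := RpushQC.hasRpush k
      exact ⟨_, ⟨BC.adj k⟩⟩
    let F' := ιY ⋙ DCoh.Lpull f ⋙ DCoh.LTensorCx I ⋙ DCoh.Lpull k
    haveI : PreservesColimitsOfShape (Discrete J) F' := inferInstance
    exact preservesColimitsOfShape_of_natIso (Iso.refl F' : F' ≅ F)
  have hsum : ∀ {J : Type u} (E : J → DCoh.DQCoh Y) [HasCoproduct E] (l : ℤ), (∀ j, (E j).obj.IsGE l) →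
      (∀ j, IsIso (τ.app (E j))) → IsIso (τ.app (∐ E)) := fun {J} E _ l hl h => by
    haveI := Gen.hasCoproducts_D Y J
    haveI := Gen.hasCoproducts_D W J
    haveI := Gen.hasCoproducts_DQ Y J
    haveI := Gen.hasCoproducts_DQ X J
    haveI := hq J
    haveI := isIso_sigmaComparison adj E l hl
    haveI : IsIso (sigmaComparison G E) := by
      rw [sigmaComparison_comp a q E]
      infer_instance
    exact Groth.L29.BC.AdjTensor.preservesCoproducts_of_comparison F G τ E h
  have hOn : ∀ n : ℤ, IsIso (τ.app (On Y n)) := fun n => by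
    haveI := h0 n (On Y n) ⟨Iso.refl _⟩
    exact inferInstanceAs (IsIso (q.map (Ψ.app (On Y n))))
  have hOn' : ∀ n m : ℤ, IsIso (τ.app ((On Y n)⟦m⟧)) := fun n m => by
    haveI := h0 (n + m) ((On Y n)⟦m⟧) ⟨(ιY.commShiftIso m).app _ ≪≫
        ((DerivedCategory.Q.commShiftIso m).app _).symm ≪≫
          DerivedCategory.Q.mapIso ((shiftFunctorAdd (CochainComplex Y.Modules ℤ) n m).app _).symm⟩
    exact inferInstanceAs (IsIso (q.map (Ψ.app ((On Y n)⟦m⟧))))
  have hGEOn : ∀ n : ℤ, (On Y n).obj.IsGE (-n) := fun n => by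
    haveI : (tt).IsGE (DerivedCategory.Q.obj (RHom.O0 Y)) 0 :=
      inferInstanceAs (DerivedCategory.IsGE (DerivedCategory.Q.obj (RHom.O0 Y)) 0)
    exact isGE_iso ((DerivedCategory.Q.commShiftIso n).app (RHom.O0 Y)).symm _
      (isGE_shift' 0 n _ ‹_› (by omega))
  have hLEOn : ∀ n : ℤ, (On Y n).obj.IsLE (-n) := fun n => by
    haveI : (tt).IsLE (DerivedCategory.Q.obj (RHom.O0 Y)) 0 :=
      inferInstanceAs (DerivedCategory.IsLE (DerivedCategory.Q.obj (RHom.O0 Y)) 0)
    exact isLE_iso ((DerivedCategory.Q.commShiftIso n).app (RHom.O0 Y)).symm _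
      (isLE_shift' 0 n _ ‹_› (by omega))
  have hH : ∀ (i : ℤ) (A : DCoh.DQCoh Y), IsIso (τ.app A) → IsIso ((tH i).app A) := fun i A h =>
    inferInstanceAs (IsIso ((H i).map (τ.app A)))
  -- the induction
  have main : ∀ (d : ℕ) (K : DCoh.DQCoh Y) (hi : ℤ), Bdd K → Le K hi →
      (∀ i, hi + cst + 1 - d < i → IsIso ((tH i).app K)) ∧ (∀ i, hi + cst + 1 - d ≤ i → Epi ((tH i).app K)) := by
    intro d
    induction d with
    | zero =>
      refine fun K hi hK hle => ⟨fun i hlt => ?_, fun i hlt => ?_⟩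
      · obtain ⟨h1, h2⟩ := hzero K hi i hK hle (by push_cast at hlt; omega)
        exact isIso_of_source_target_iso_zero _ h1.isoZero h2.isoZero
      · exact (hzero K hi i hK hle (by push_cast at hlt; omega)).2.epi _
    | succ d ih =>
      intro K hi hK hle
      -- pushing forward from the chart
      have hqM : DCoh.IsQCohD (rs.obj K.obj) := isQCohD_restrictD jV K.property
      let K' : DCoh.DQCoh Y := ⟨(DCoh.Rpush jV).obj (rs.obj K.obj), RpushQC.isQCohD_Rpush jV _ hqM⟩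
      haveI : IsIso (ad.counit.app (rs.obj K.obj)) := inferInstance
      have hK' : Bdd K' := by
        obtain ⟨l, hl⟩ := hK
        obtain ⟨r⟩ := nonempty_Lpull_iso_restrictD jV K.obj
        haveI : (tt).IsGE ((DCoh.Lpull jV).obj K.obj) l := isGE_Lpull_flat jV K.obj l hl
        haveI : (rs.obj K.obj).IsGE l := (tt).isGE_of_iso r l
        exact ⟨l, RpushQC.isGE_Rpush jV (rs.obj K.obj) l⟩
      let η : K ⟶ K' := ObjectProperty.homMk (ad.unit.app K.obj)
      obtain ⟨C₀, c₀, d₀, hT₀⟩ := distinguished_cocone_triangle η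
      have hηi : IsIso (rs.map (ad.unit.app K.obj)) := by
        haveI : IsIso (rs.map (ad.unit.app K.obj) ≫ ad.counit.app (rs.obj K.obj)) := by
          rw [show rs.map (ad.unit.app K.obj) ≫ ad.counit.app (rs.obj K.obj) = 𝟙 _ from
            ad.left_triangle_components K.obj]
          infer_instance
        exact IsIso.of_isIso_comp_right _ (ad.counit.app (rs.obj K.obj))
      have hC₀ : IsZero (rs.obj C₀.obj) :=
        (Triangle.isZero₃_iff_isIso₁ _ ((ιY ⋙ rs).map_distinguished _ hT₀)).2 hηi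
      have hC₀b : Bdd C₀ := hbdd₃ _ hT₀ hK hK'
      have hC₀z : IsZero (rs.obj (C₀⟦(-1 : ℤ)⟧).obj) :=
        ((CategoryTheory.shiftFunctor _ (-1 : ℤ)).map_isZero hC₀).of_iso
          (rs.mapIso ((ιY.commShiftIso (-1 : ℤ)).app C₀) ≪≫ (rs.commShiftIso (-1 : ℤ)).app _)
      have hη : ∀ i, IsIso ((F ⋙ H i).map η) ∧ IsIso ((G ⋙ H i).map η) := fun i =>
        ⟨isIso_map₁ (midExact_H exF i) _ hT₀ (hV0 _ (hsh C₀ (-1) hC₀b) hC₀z i).1 (hV0 C₀ hC₀b hC₀ i).1,
          isIso_map₁ (midExact_H exG i) _ hT₀ (hV0 _ (hsh C₀ (-1) hC₀b) hC₀z i).2 (hV0 C₀ hC₀b hC₀ i).2⟩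
      suffices h' : (∀ i, hi + cst + 1 - (d + 1 : ℕ) < i → IsIso ((tH i).app K')) ∧
          (∀ i, hi + cst + 1 - (d + 1 : ℕ) ≤ i → Epi ((tH i).app K')) by
        refine ⟨fun i hlt => ?_, fun i hlt => ?_⟩
        · haveI := h'.1 i hlt
          haveI := (hη i).1
          haveI := (hη i).2
          haveI : IsIso ((tH i).app K ≫ (G ⋙ H i).map η) := by
            rw [← (tH i).naturality η]; infer_instance
          exact IsIso.of_isIso_comp_right _ ((G ⋙ H i).map η)
        · haveI := h'.2 i hlt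
          haveI := (hη i).1
          haveI := (hη i).2
          haveI : Epi ((tH i).app K ≫ (G ⋙ H i).map η) := by
            rw [← (tH i).naturality η]; infer_instance
          rw [show (tH i).app K = ((tH i).app K ≫ (G ⋙ H i).map η) ≫ inv ((G ⋙ H i).map η) by simp]
          infer_instance
      -- a free object surjecting in the top degree
      obtain ⟨N, ⟨eN⟩⟩ := (TildeD.isQCohD_iff _).1 hqM
      let fam : Dual.HD R N hi → DCoh.DQCoh Y := fun _ => On Y (-hi)
      let fam₀ : Dual.HD R N hi → Dual.D R := fun _ => (Dual.inD R R)⟦-hi⟧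
      let J : Type u := Dual.HD R N hi
      haveI := Gen.hasCoproducts_D Y J
      haveI := Gen.hasCoproducts_D (Spec (CommRingCat.of R)) J
      haveI := Gen.hasCoproducts_DQ Y J
      haveI := Gen.preservesCoproducts_ι (X := Y) J
      haveI : rs.IsLeftAdjoint := ad.isLeftAdjoint
      haveI := Cpt.preservesCoproducts_tildeD (CommRingCat.of R) J
      haveI : HasCoproductsOfShape J (Dual.D R) :=
        haveI : HasCoproductsOfShape J (CochainComplex (ModuleCat.{u} R) ℤ) := inferInstance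
        Groth.L10.DerivedProd.hasCoproductsOfShape
      haveI : PreservesColimitsOfShape (Discrete J) (ιY ⋙ rs) := comp_preservesColimitsOfShape _ _
      let S := ∐ fam
      obtain ⟨r⟩ := nonempty_Lpull_iso_restrictD jV (On Y (-hi)).obj
      obtain ⟨o⟩ := nonempty_Lpull_OD_shift jV (-hi)
      obtain ⟨s⟩ := nonempty_tilde_self_shift R (-hi)
      let e1 : (On Y (-hi)).obj ≅ (DCoh.inD Y (Coh.structureModule Y))⟦-hi⟧ :=
        (DerivedCategory.Q.commShiftIso (-hi)).app (RHom.O0 Y) ≪≫ (CategoryTheory.shiftFunctor _ (-hi)).mapIso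
          (((SingleFunctors.evaluation _ _ 0).mapIso (DerivedCategory.singleFunctorsPostcompQIso Y.Modules)).app
            (Coh.structureModule Y)).symm
      let eOn : rs.obj (On Y (-hi)).obj ≅ (DCoh.tildeD (CommRingCat.of R)).obj ((Dual.inD R R)⟦-hi⟧) :=
        r.symm ≪≫ (DCoh.Lpull jV).mapIso e1 ≪≫ o ≪≫ s.symm
      let T₀ := DCoh.tildeD (CommRingCat.of R)
      let eS : rs.obj S.obj ≅ T₀.obj (∐ fam₀) :=
        PreservesCoproduct.iso (ιY ⋙ rs) fam ≪≫ Sigma.mapIso (fun _ => eOn) ≪≫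
          (PreservesCoproduct.iso T₀ fam₀).symm
      let w : ∐ fam₀ ⟶ N := Sigma.desc fun x => (σ R hi N).symm x
      let u₀ : rs.obj S.obj ⟶ rs.obj K.obj := eS.hom ≫ T₀.map w ≫ eN.hom
      let u : S ⟶ K' := ObjectProperty.homMk (ad.homEquiv _ _ u₀)
      obtain ⟨C, c, δ, hT⟩ := distinguished_cocone_triangle u
      obtain ⟨Cw, cw, δw, hTw⟩ := distinguished_cocone_triangle w
      have hSb : S.obj.IsGE hi := by
        exact isGE_iso (PreservesCoproduct.iso ιY fam).symm hi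
          (isGE_coprod (fun j => (fam j).obj) hi fun _ => by simpa [fam] using hGEOn (-hi))
      have hSle : (∐ fam₀).IsLE hi := by
        have h1 : S.obj.IsLE hi := isLE_iso (PreservesCoproduct.iso ιY fam).symm hi
          (isLE_coprod (fun j => (fam j).obj) hi fun _ => by simpa [fam] using hLEOn (-hi))
        obtain ⟨r'⟩ := nonempty_Lpull_iso_restrictD jV S.obj
        haveI : (tt).IsLE ((DCoh.Lpull jV).obj S.obj) hi := isLE_Lpull jV _ hi h1
        haveI : (tt).IsLE (rs.obj S.obj) hi := (tt).isLE_of_iso r' hi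
        haveI : DerivedCategory.IsLE (T₀.obj (∐ fam₀)) hi := (tt).isLE_of_iso eS hi
        exact (DerivedCategory.isLE_iff _ _).2 fun j hj =>
          (TildeAlg.isZero_hd_iff (R := CommRingCat.of R) _ j).1 (DerivedCategory.isZero_of_isLE _ hi j hj)
      have hNle : N.IsLE hi := by
        haveI : (tt).IsLE (rs.obj K.obj) hi := hle
        haveI : DerivedCategory.IsLE (T₀.obj N) hi := (tt).isLE_of_iso eN.symm hi
        exact (DerivedCategory.isLE_iff _ _).2 fun j hj =>
          (TildeAlg.isZero_hd_iff (R := CommRingCat.of R) _ j).1 (DerivedCategory.isZero_of_isLE _ hi j hj)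
      have hCw : Cw.IsLE (hi - 1) := isLE_cone R _ hTw hi hSle hNle fun b => by
        refine ⟨Sigma.ι fam₀ (σ R hi N b), ?_⟩
        change Sigma.ι fam₀ _ ≫ w = b
        simp [w]
      have hu : rs.map (ad.homEquiv _ _ u₀) ≫ ad.counit.app (rs.obj K.obj) = u₀ :=
        (ad.homEquiv_counit _ _ _).symm.trans ((ad.homEquiv _ _).symm_apply_apply u₀)
      let θ := isoTriangleOfIso₁₂ _ _ ((ιY ⋙ rs).map_distinguished _ hT) (T₀.map_distinguished _ hTw) eS
        ((asIso (ad.counit.app (rs.obj K.obj))).trans eN.symm) (by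
          change rs.map (ad.homEquiv _ _ u₀) ≫ ad.counit.app (rs.obj K.obj) ≫ eN.inv = eS.hom ≫ T₀.map w
          rw [reassoc_of% hu]
          simp [u₀])
      have hCle : Le C (hi - 1) := by
        have h2 : (T₀.obj Cw).IsLE (hi - 1) := (DerivedCategory.isLE_iff _ _).2 fun j hj =>
          (TildeAlg.isZero_hd_iff (R := CommRingCat.of R) Cw j).2
            (haveI := hCw; DerivedCategory.isZero_of_isLE _ (hi - 1) j hj)
        exact isLE_iso (Triangle.π₃.mapIso θ).symm (hi - 1) h2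
      have hCb : Bdd C := hbdd₃ _ hT ⟨hi, hSb⟩ hK'
      have hSi : ∀ m : ℤ, IsIso (τ.app (S⟦m⟧)) := fun m => by
        haveI : IsIso (sigmaComparison (CategoryTheory.shiftFunctor (DCoh.DQCoh Y) m) fam) := inferInstance
        refine (NatTrans.isIso_app_iff_of_iso τ
          (asIso (sigmaComparison (CategoryTheory.shiftFunctor (DCoh.DQCoh Y) m) fam))).1 ?_
        refine hsum (fun j => (fam j)⟦m⟧) (hi - m) (fun j => ?_) fun j => hOn' (-hi) m
        haveI : (tt).IsGE (On Y (-hi)).obj hi := by simpa using hGEOn (-hi)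
        exact isGE_iso ((ιY.commShiftIso m).app (On Y (-hi))).symm _ (isGE_shift' hi m _ ‹_› (by omega))
      have hS0 : IsIso (τ.app S) :=
        (NatTrans.isIso_app_iff_of_iso τ ((shiftFunctorZero (DCoh.DQCoh Y) ℤ).app S)).1 (hSi 0)
      have hep : ∀ i, hi + cst + 1 - (d + 1 : ℕ) ≤ i → Epi ((tH i).app K') := fun i hlt => by
        haveI := hH i S hS0
        haveI := hH i _ (hSi 1)
        exact epi_app₂ (tH i) (midExact_H exF i) (midExact_H exG i) _ hT
          (show Epi ((tH i).app S) from inferInstance) ((ih C (hi - 1) hCb hCle).2 i (by push_cast at hlt; omega))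
          (show Mono ((tH i).app (S⟦(1 : ℤ)⟧)) from inferInstance)
      refine ⟨fun i hlt => ?_, hep⟩
      haveI := hep i hlt.le
      haveI : Mono ((tH i).app K') := by
        haveI := hH i S hS0
        haveI := (ih C (hi - 1) hCb hCle).1 i (by push_cast at hlt; omega)
        exact mono_app₂ (tH i) (midExact_H exF i) (midExact_H exG i) _ hT
          ((ih (C⟦(-1 : ℤ)⟧) (hi - 1 - -1) (hsh C (-1) hCb) (hshLe C (-1) _ hCle)).2 i
            (by push_cast at hlt; omega))
          (show Mono ((tH i).app S) from inferInstance) (show Mono ((tH i).app C) from inferInstance)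
      exact isIso_of_mono_of_epi _
  have hfin : ∀ (A : DCoh.DQCoh Y) (hi : ℤ), Bdd A → Le A hi → IsIso (τ.app A) := fun A hi hA hle =>
    (DerivedCategory.isIso_iff _ _).2 fun i =>
      (main (hi + cst + 2 - i).toNat A hi hA hle).1 i (by omega)
  -- bounded below objects as hocolims
  haveI := Gen.hasCoproducts_D Y (ULift.{u} ℕ)
  haveI : HasColimitsOfShape (Discrete ℕ) (DCoh.D Y) :=
    hasColimitsOfShape_of_equivalence (Discrete.equivalence (Equiv.ulift.{u} : ULift.{u} ℕ ≃ ℕ))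
  haveI := Gen.hasCoproducts_DQ Y (ULift.{u} ℕ)
  haveI := Gen.preservesCoproducts_ι (X := Y) (ULift.{u} ℕ)
  let E : ℕ → DCoh.D Y := fun n => ((tt).truncLT (lo + n)).obj K.obj
  let E' : ULift.{u} ℕ → DCoh.DQCoh Y := fun n => ⟨E n.down, Cpt.isQCohD_truncLT K.property _⟩
  have hEge : ∀ n, (E n).IsGE lo := fun n => (DerivedCategory.isGE_iff _ _).2 fun j hj => by
    haveI := Groth.L10.isIso_H_ι (lo + n) j (by omega) K.obj
    haveI := hK
    exact (DerivedCategory.isZero_of_isGE K.obj lo j hj).of_iso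
      (asIso ((DerivedCategory.homologyFunctor Y.Modules j).map (((tt).truncLTι (lo + n)).app K.obj)))
  have hEle : ∀ n, Le (E' n) (lo + n.down - 1) := fun n => by
    haveI := (tt).isLE_truncLT_obj K.obj (lo + n.down) (lo + n.down - 1) (by omega)
    obtain ⟨r⟩ := nonempty_Lpull_iso_restrictD jV (E n.down)
    exact isLE_iso r _ (isLE_Lpull jV (E n.down) _ inferInstance)
  let P := ∐ E'
  have hP : ∀ m : ℤ, IsIso (τ.app (P⟦m⟧)) := fun m => by
    haveI : IsIso (sigmaComparison (CategoryTheory.shiftFunctor (DCoh.DQCoh Y) m) E') := inferInstance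
    refine (NatTrans.isIso_app_iff_of_iso τ
      (asIso (sigmaComparison (CategoryTheory.shiftFunctor (DCoh.DQCoh Y) m) E'))).1 ?_
    refine hsum (fun n => (E' n)⟦m⟧) (lo - m) (fun n => ?_) fun n => ?_
    · exact isGE_iso ((ιY.commShiftIso m).app (E' n)).symm _ (isGE_shift' lo m _ (hEge n.down) (by omega))
    · exact hfin _ _ (hsh _ m ⟨lo, hEge n.down⟩) (hshLe _ m _ (hEle n))
  let φ : ιY.obj P ≅ ∐ E :=
    PreservesCoproduct.iso ιY E' ≪≫
      Sigma.whiskerEquiv (f := fun n : ULift.{u} ℕ => E n.down) (g := E) Equiv.ulift.{u} fun n => Iso.refl _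
  obtain ⟨cE, hcE⟩ := isHocolim_trunc K.obj lo
  let u₁ : P ⟶ P := ObjectProperty.homMk (φ.hom ≫ (𝟙 (∐ E) - DerLim.shiftMap E (fun n : ℕ =>
    ((tt).natTransTruncLTOfLE (lo + n) (lo + (n + 1 : ℕ)) (by push_cast; omega)).app K.obj)) ≫ φ.inv)
  obtain ⟨C, v₁, w₁, hT⟩ := distinguished_cocone_triangle u₁
  let θ := isoTriangleOfIso₁₂ _ _ (ιY.map_distinguished _ hT) hcE φ φ (by
    change (φ.hom ≫ _ ≫ φ.inv) ≫ φ.hom = φ.hom ≫ _
    simp only [Category.assoc, Iso.inv_hom_id, Category.comp_id]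
    rfl)
  refine (NatTrans.isIso_app_iff_of_iso τ
    (ObjectProperty.isoMk _ (Triangle.π₃.mapIso θ) : C ≅ K)).1 ?_
  refine (DerivedCategory.isIso_iff _ _).2 fun i => ?_
  have hP0 : IsIso (τ.app P) :=
    (NatTrans.isIso_app_iff_of_iso τ ((shiftFunctorZero (DCoh.DQCoh Y) ℤ).app P)).1 (hP 0)
  have hP1 : IsIso (τ.app (((P⟦(1 : ℤ)⟧))⟦(-1 : ℤ)⟧)) :=
    (NatTrans.isIso_app_iff_of_iso τ
      ((shiftFunctorCompIsoId (DCoh.DQCoh Y) (1 : ℤ) (-1) (by omega)).app P)).2 hP0
  haveI := hH i P hP0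
  haveI := hH i _ (hP 1)
  haveI := hH i _ hP1
  haveI : Epi ((tH i).app C) :=
    epi_app₂ (tH i) (midExact_H exF i) (midExact_H exG i) _ (rot_of_distTriang _ hT)
      (show Epi ((tH i).app P) from inferInstance) (show Epi ((tH i).app (P⟦(1 : ℤ)⟧)) from inferInstance)
      (show Mono ((tH i).app (P⟦(1 : ℤ)⟧)) from inferInstance)
  haveI : Mono ((tH i).app C) :=
    mono_app₂ (tH i) (midExact_H exF i) (midExact_H exG i) _ (rot_of_distTriang _ hT)
      (show Epi ((tH i).app ((P⟦(1 : ℤ)⟧)⟦(-1 : ℤ)⟧)) from inferInstance)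
      (show Mono ((tH i).app P) from inferInstance) (show Mono ((tH i).app (P⟦(1 : ℤ)⟧)) from inferInstance)
  exact isIso_of_mono_of_epi ((tH i).app C)

end Groth.Lead.PerfTensor
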