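import Mathlib.CategoryTheory.Triangulated.HomologicalFunctor
import Mathlib.CategoryTheory.Abelian.Refinements

/-!
# Five lemmas for natural transformations of middle exact functors
-/

set_option autoImplicit false

universe v v' u u'

open CategoryTheory CategoryTheory.Limits CategoryTheory.Pretriangulated

namespace Groth.Lead.PerfTensor

variable {C : Type u} [Category.{v} C] [HasZeroObject C] [HasShift C ℤ] [Preadditive C]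
  [∀ n : ℤ, (CategoryTheory.shiftFunctor C n).Additive] [Pretriangulated C]
  {A : Type u'} [Category.{v'} A] [Abelian A]

/-- middle exactness at distinguished triangles -/
def MidExact (P : C ⥤ A) : Prop :=
  ∀ T : Triangle C, T ∈ distTriang C → ∀ {Z : A} (z : Z ⟶ P.obj T.obj₂), z ≫ P.map T.mor₂ = 0 →
    ∃ (Z' : A) (π : Z' ⟶ Z) (_ : Epi π) (b : Z' ⟶ P.obj T.obj₁), π ≫ z = b ≫ P.map T.mor₁

/-- refined lifting -/
def Lifts {B C' D : A} (f : B ⟶ C') (g : C' ⟶ D) : Prop :=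
  ∀ {Z : A} (z : Z ⟶ C'), z ≫ g = 0 → ∃ (Z' : A) (π : Z' ⟶ Z) (_ : Epi π) (b : Z' ⟶ B), π ≫ z = b ≫ f

theorem epi_mid {B M D E B' M' D' E' : A} {f : B ⟶ M} {g : M ⟶ D} {k : D ⟶ E} {f' : B' ⟶ M'} {g' : M' ⟶ D'}
    {k' : D' ⟶ E'} {tB : B ⟶ B'} {tM : M ⟶ M'} {tD : D ⟶ D'} {tE : E ⟶ E'} (c₁ : f ≫ tM = tB ≫ f')
    (c₂ : g ≫ tD = tM ≫ g') (c₃ : k ≫ tE = tD ≫ k') (hP : Lifts g k) (hQ : Lifts f' g') (hz : g' ≫ k' = 0)
    [Epi tB] [Epi tD] [Mono tE] : Epi tM := by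
  rw [epi_iff_surjective_up_to_refinements]
  intro Z y
  obtain ⟨Z₁, π₁, _, x₃, hx₃⟩ := surjective_up_to_refinements_of_epi tD (y ≫ g')
  have h0 : x₃ ≫ k = 0 := by
    rw [← cancel_mono tE, zero_comp, Category.assoc, c₃, ← reassoc_of% hx₃, hz, comp_zero, comp_zero]
  obtain ⟨Z₂, π₂, _, x₂, hx₂⟩ := hP x₃ h0
  have h1 : (π₂ ≫ π₁ ≫ y - x₂ ≫ tM) ≫ g' = 0 := by
    rw [Preadditive.sub_comp, Category.assoc, Category.assoc, hx₃, Category.assoc, ← c₂, reassoc_of% hx₂, sub_self]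
  obtain ⟨Z₃, π₃, _, b, hb⟩ := hQ _ h1
  obtain ⟨Z₄, π₄, _, x₁, hx₁⟩ := surjective_up_to_refinements_of_epi tB b
  refine ⟨Z₄, π₄ ≫ π₃ ≫ π₂ ≫ π₁, inferInstance, x₁ ≫ f + π₄ ≫ π₃ ≫ x₂, ?_⟩
  simp only [Category.assoc, Preadditive.add_comp]
  rw [c₁, ← reassoc_of% hx₁, ← hb]
  simp [Preadditive.comp_sub]

theorem mono_mid {B₀ B M D B₀' B' M' D' : A} {e : B₀ ⟶ B} {f : B ⟶ M} {g : M ⟶ D} {e' : B₀' ⟶ B'} {f' : B' ⟶ M'}
    {g' : M' ⟶ D'} {t₀ : B₀ ⟶ B₀'} {tB : B ⟶ B'} {tM : M ⟶ M'} {tD : D ⟶ D'} (c₀ : e ≫ tB = t₀ ≫ e')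
    (c₁ : f ≫ tM = tB ≫ f') (c₂ : g ≫ tD = tM ≫ g') (hP : Lifts f g) (hQ : Lifts e' f') (hz : e ≫ f = 0)
    [Epi t₀] [Mono tB] [Mono tD] : Mono tM := by
  refine Preadditive.mono_of_cancel_zero _ fun {Z} x hx => ?_
  have h0 : x ≫ g = 0 := by
    rw [← cancel_mono tD, zero_comp, Category.assoc, c₂, reassoc_of% hx, zero_comp]
  obtain ⟨Z₁, π₁, _, x₁, hx₁⟩ := hP x h0
  have h1 : (x₁ ≫ tB) ≫ f' = 0 := by
    rw [Category.assoc, ← c₁, ← reassoc_of% hx₁, hx, comp_zero]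
  obtain ⟨Z₂, π₂, _, b, hb⟩ := hQ _ h1
  obtain ⟨Z₃, π₃, _, x₀, hx₀⟩ := surjective_up_to_refinements_of_epi t₀ b
  have h2 : π₃ ≫ π₂ ≫ x₁ = x₀ ≫ e := by
    rw [← cancel_mono tB, Category.assoc, Category.assoc, hb, Category.assoc, c₀, reassoc_of% hx₀]
  rw [← cancel_epi (π₃ ≫ π₂ ≫ π₁), comp_zero]
  simp only [Category.assoc]
  rw [hx₁, reassoc_of% h2, hz, comp_zero]

variable {P Q : C ⥤ A} [P.PreservesZeroMorphisms] [Q.PreservesZeroMorphisms] (t : P ⟶ Q)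

theorem map_mor_zero (F : C ⥤ A) [F.PreservesZeroMorphisms] (T : Triangle C) (hT : T ∈ distTriang C) :
    F.map T.mor₁ ≫ F.map T.mor₂ = 0 := by
  rw [← F.map_comp, comp_distTriang_mor_zero₁₂ _ hT, F.map_zero]

/-- four lemma, epimorphisms -/
theorem epi_app₂ (hP : MidExact P) (hQ : MidExact Q) (T : Triangle C) (hT : T ∈ distTriang C)
    (h₁ : Epi (t.app T.obj₁)) (h₃ : Epi (t.app T.obj₃)) (h₄ : Mono (t.app T.rotate.obj₃)) :
    Epi (t.app T.obj₂) :=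
  @epi_mid A _ _ _ _ _ _ _ _ _ _ _ _ _ _ _ _ (t.app T.obj₁) (t.app T.obj₂) (t.app T.obj₃) (t.app T.rotate.obj₃)
    (t.naturality T.mor₁) (t.naturality T.mor₂) (t.naturality T.rotate.mor₂)
    (hP T.rotate (rot_of_distTriang _ hT)) (hQ T hT) (map_mor_zero Q T.rotate (rot_of_distTriang _ hT)) h₁ h₃ h₄

/-- four lemma, monomorphisms -/
theorem mono_app₂ (hP : MidExact P) (hQ : MidExact Q) (T : Triangle C) (hT : T ∈ distTriang C)
    (h₀ : Epi (t.app T.invRotate.obj₁)) (h₁ : Mono (t.app T.obj₁)) (h₃ : Mono (t.app T.obj₃)) :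
    Mono (t.app T.obj₂) :=
  @mono_mid A _ _ _ _ _ _ _ _ _ _ _ _ _ _ _ _ (t.app T.invRotate.obj₁) (t.app T.obj₁) (t.app T.obj₂) (t.app T.obj₃)
    (t.naturality T.invRotate.mor₁) (t.naturality T.mor₁) (t.naturality T.mor₂)
    (hP T hT) (hQ T.invRotate (inv_rot_of_distTriang _ hT)) (map_mor_zero P T.invRotate (inv_rot_of_distTriang _ hT))
    h₀ h₁ h₃

end Groth.Lead.PerfTensor
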